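import Mathlib
import Cfsg.Agent.Lib.Frobenius.Basic

/-!
A nontrivial finite group acting fixed-point-freely on a nontrivial finite group, or on a nontrivial finitely
generated abelian group, occurs as a Frobenius complement of a finite group living in `Type`.
-/

set_option autoImplicit false

open scoped Pointwise

namespace CfsgLib.FrobModule

universe u v

/-- A fixed-point-free action on a finite group gives a Frobenius group in `Type`. -/
theorem exists_complement_of_fpf {H : Type u} [Group H] [Finite H] [Nontrivial H]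
    {M : Type v} [Group M] [Finite M] [Nontrivial M] (φ : H →* MulAut M)
    (hfpf : ∀ h : H, h ≠ 1 → ∀ m : M, φ h m = m → m = 1) :
    ∃ (L : Type) (_ : Group L) (_ : Finite L) (C : Subgroup L),
      Cfsg.IsFrobeniusComplement C ∧ Nonempty (H ≃* C) ∧
        Nat.card (Cfsg.frobeniusKernel C) = Nat.card M := by
  classical
  have : Finite (M ⋊[φ] H) := Finite.of_equiv _ SemidirectProduct.equivProd.symm
  let e : M ⋊[φ] H ≃* Shrink.{0} (M ⋊[φ] H) := Shrink.mulEquiv.symm
  let iH : H →* Shrink.{0} (M ⋊[φ] H) := e.toMonoidHom.comp SemidirectProduct.inr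
  have hiH : Function.Injective iH := e.injective.comp SemidirectProduct.inr_injective
  let p : Shrink.{0} (M ⋊[φ] H) →* H := SemidirectProduct.rightHom.comp e.symm.toMonoidHom
  let iM : M →* Shrink.{0} (M ⋊[φ] H) := e.toMonoidHom.comp SemidirectProduct.inl
  have hiM : Function.Injective iM := e.injective.comp SemidirectProduct.inl_injective
  have hker : p.ker = iM.range := by
    ext x
    rw [MonoidHom.mem_ker]
    constructor
    · intro hx
      have : e.symm x ∈ (SemidirectProduct.inl : M →* M ⋊[φ] H).range := by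
        rw [SemidirectProduct.range_inl_eq_ker_rightHom]; exact hx
      obtain ⟨m, hm⟩ := this
      exact ⟨m, by simp [iM, hm]⟩
    · rintro ⟨m, rfl⟩
      simp [p, iM]
  have hp : ∀ h, p (iH h) = h := fun h => by simp [p, iH]
  have hnorm : iM.range.Normal := hker ▸ p.normal_ker
  have hc : Subgroup.IsComplement' iM.range iH.range := by
    refine Subgroup.isComplement'_of_disjoint_and_mul_eq_univ ?_ ?_
    · rw [Subgroup.disjoint_def]
      rintro x hx ⟨h, rfl⟩
      rw [← hker, MonoidHom.mem_ker, hp] at hx
      simp [hx]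
    · refine Set.eq_univ_of_forall fun x => ?_
      refine Set.mem_mul.2 ⟨iM (e.symm x).left, ⟨_, rfl⟩, iH (e.symm x).right, ⟨_, rfl⟩, ?_⟩
      simp only [iM, iH, MonoidHom.comp_apply, MulEquiv.coe_toMonoidHom, ← map_mul,
        SemidirectProduct.inl_left_mul_inr_right, MulEquiv.apply_symm_apply]
  have hMne : iM.range ≠ ⊥ := by
    rw [Ne, MonoidHom.range_eq_bot_iff]
    intro h
    obtain ⟨m, hm⟩ := exists_ne (1 : M)
    exact hm (hiM (by simp [h]))
  have hHne : iH.range ≠ ⊥ := by
    rw [Ne, MonoidHom.range_eq_bot_iff]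
    intro h
    obtain ⟨m, hm⟩ := exists_ne (1 : H)
    exact hm (hiH (by simp [h]))
  have hf : ∀ x ∈ iH.range, x ≠ 1 → iM.range ⊓ Subgroup.centralizer {x} = ⊥ := by
    rintro _ ⟨h, rfl⟩ h1
    rw [eq_bot_iff]
    rintro _ ⟨⟨m, rfl⟩, hm⟩
    have hm := Subgroup.mem_centralizer_singleton_iff.1 hm
    have hh : h ≠ 1 := fun h0 => h1 (by simp [h0])
    have hfix : φ h m = m := by
      have hm' : iH h * iM m * (iH h)⁻¹ = iM m := by rw [← hm]; group
      apply hiM
      rw [← hm']
      simp only [iM, iH, MonoidHom.comp_apply, MulEquiv.coe_toMonoidHom, ← map_mul, ← map_inv,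
        SemidirectProduct.inl_aut]
    simp [hfpf h hh m hfix]
  have hF : Cfsg.IsFrobeniusComplement iH.range :=
    CfsgLib.Frobenius.isFrobeniusComplement_of_fpf hc hMne hHne hf
  refine ⟨Shrink.{0} (M ⋊[φ] H), inferInstance, inferInstance, iH.range, hF,
    ⟨MonoidHom.ofInjective hiH⟩, ?_⟩
  rw [← CfsgLib.Frobenius.kernel_eq_of_isComplement' hc hF]
  exact (Nat.card_congr (MonoidHom.ofInjective hiM).toEquiv).symm

/-- If `h ^ k = 1` and the only fixed point of `h` is zero, the norm of `h` vanishes. -/
theorem norm_eq_zero {H : Type u} [Group H] {A : Type v} [AddCommGroup A] [DistribMulAction H A]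
    (h : H) (k : ℕ) (hk : h ^ k = 1) (hfpf : ∀ a : A, h • a = a → a = 0) (a : A) :
    ∑ j ∈ Finset.range k, h ^ j • a = 0 := by
  apply hfpf
  rw [Finset.smul_sum]
  simp only [smul_smul, ← pow_succ']
  have h1 := Finset.sum_range_succ' (fun j => h ^ j • a) k
  have h2 := Finset.sum_range_succ (fun j => h ^ j • a) k
  simp only [pow_zero, one_smul] at h1
  rw [h2, hk, one_smul] at h1
  exact (add_right_cancel h1).symm

/-- An infinite finitely generated abelian group is not divisible by any `r > 1`. -/
theorem exists_not_mem_nsmul {A : Type v} [AddCommGroup A] [AddGroup.FG A] [Infinite A]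
    (r : ℕ) (hr : 1 < r) : ∃ a : A, ∀ b : A, r • b ≠ a := by
  obtain ⟨n, ι, hι, p, hp, e, ⟨f⟩⟩ := AddCommGroup.equiv_free_prod_directSum_zmod (G := A)
  rcases n with _ | n
  · exfalso
    classical
    have : ∀ i, NeZero (p i ^ e i) := fun i => ⟨pow_ne_zero _ (hp i).ne_zero⟩
    have : Finite (DirectSum ι fun i => ZMod (p i ^ e i)) :=
      Finite.of_injective (fun x i => x i) DFunLike.coe_injective
    have : Finite A := Finite.of_equiv _ f.symm.toEquiv
    exact not_finite A
  · refine ⟨f.symm (Finsupp.single 0 1, 0), fun b hb => ?_⟩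
    have h1 := congrArg (fun z => (f z).1 0) hb
    simp at h1
    have : (r : ℤ) ∣ 1 := ⟨(f b).1 0, h1.symm⟩
    have := Int.eq_one_of_dvd_one (Int.natCast_nonneg r) this
    omega

/-- The automorphism of `Multiplicative A` given by an action on `A`. -/
def autMul (H : Type u) (A : Type v) [Group H] [AddCommGroup A] [DistribMulAction H A] :
    H →* MulAut (Multiplicative A) where
  toFun h := AddEquiv.toMultiplicative (DistribSMul.toAddMonoidHom A h |>.toAddEquiv
    (DistribSMul.toAddMonoidHom A h⁻¹) (by ext a; simp) (by ext a; simp))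
  map_one' := by
    ext a
    apply Multiplicative.toAdd.injective
    simp
  map_mul' g h := by
    ext a
    apply Multiplicative.toAdd.injective
    simp [mul_smul]

/-- A fixed-point-free action on a finitely generated abelian group gives a Frobenius complement. -/
theorem exists_complement_of_fpf_fg {H : Type u} [Group H] [Finite H] [Nontrivial H]
    {A : Type v} [AddCommGroup A] [AddGroup.FG A] [Nontrivial A] [DistribMulAction H A]
    (hfpf : ∀ h : H, h ≠ 1 → ∀ a : A, h • a = a → a = 0) :
    ∃ (L : Type) (_ : Group L) (_ : Finite L) (C : Subgroup L),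
      Cfsg.IsFrobeniusComplement C ∧ Nonempty (H ≃* C) := by
  rcases finite_or_infinite A with hA | hA
  · let φ : H →* MulAut (Multiplicative A) :=
      autMul H A
    obtain ⟨L, i1, i2, C, h1, h2, -⟩ := exists_complement_of_fpf φ (fun h hh m hm =>
      Multiplicative.toAdd.injective (hfpf h hh m.toAdd (congrArg Multiplicative.toAdd hm)))
    exact ⟨L, i1, i2, C, h1, h2⟩
  · obtain ⟨r, hrH, hr⟩ := Nat.exists_infinite_primes (Nat.card H + 1)
    set R : AddSubgroup A := (nsmulAddMonoidHom (α := A) r).range with hR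
    have hRinv : ∀ h : H, ∀ a ∈ R, h • a ∈ R := by
      rintro h _ ⟨b, rfl⟩
      exact ⟨h • b, (map_nsmul (DistribSMul.toAddMonoidHom A h) r b).symm⟩
    have hMfin : Finite (A ⧸ R) := by
      refine AddCommGroup.finite_of_fg_isAddTorsion _ (fun x => ?_)
      obtain ⟨a, rfl⟩ := QuotientAddGroup.mk_surjective x
      rw [isOfFinAddOrder_iff_nsmul_eq_zero]
      exact ⟨r, hr.pos, by
        rw [← QuotientAddGroup.mk_nsmul, QuotientAddGroup.eq_zero_iff]; exact ⟨a, rfl⟩⟩
    have hMnt : Nontrivial (A ⧸ R) := by
      obtain ⟨a, ha⟩ := exists_not_mem_nsmul (A := A) r hr.one_lt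
      refine ⟨⟨(a : A ⧸ R), 0, fun h => ?_⟩⟩
      rw [QuotientAddGroup.eq_zero_iff] at h
      obtain ⟨b, hb⟩ := h
      exact ha b hb
    let act : H → A ⧸ R →+ A ⧸ R := fun h =>
      QuotientAddGroup.map R R (DistribSMul.toAddMonoidHom A h) (fun a ha => hRinv h a ha)
    have hact : ∀ (h : H) (a : A), act h (a : A ⧸ R) = ((h • a : A) : A ⧸ R) := fun _ _ => rfl
    let inst : DistribMulAction H (A ⧸ R) :=
      { smul := fun h x => act h x
        one_smul := fun x => by
          obtain ⟨a, rfl⟩ := QuotientAddGroup.mk_surjective x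
          show act 1 _ = _
          rw [hact, one_smul]
        mul_smul := fun g h x => by
          obtain ⟨a, rfl⟩ := QuotientAddGroup.mk_surjective x
          show act (g * h) _ = act g (act h _)
          rw [hact, hact, hact, mul_smul]
        smul_zero := fun h => map_zero (act h)
        smul_add := fun h => map_add (act h) }
    let φ : H →* MulAut (Multiplicative (A ⧸ R)) :=
      autMul H (A ⧸ R)
    obtain ⟨L, i1, i2, C, h1, h2, -⟩ := exists_complement_of_fpf φ (fun h hh m hm => by
      obtain ⟨a, ha⟩ := QuotientAddGroup.mk_surjective m.toAdd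
      apply Multiplicative.toAdd.injective
      have hm' : ((h • a : A) : A ⧸ R) = (a : A ⧸ R) := by
        have := congrArg Multiplicative.toAdd hm
        rw [← hact, ha]
        exact this
      set k := orderOf h
      have hpow : ∀ j, ((h ^ j • a : A) : A ⧸ R) = (a : A ⧸ R) := by
        intro j
        induction j with
        | zero => rw [pow_zero, one_smul]
        | succ j ih => rw [pow_succ', mul_smul, ← hact, ih, hact, hm']
      have hsum : k • (a : A ⧸ R) = 0 := by
        have h0 := congrArg (fun z : A => (z : A ⧸ R))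
          (norm_eq_zero h k (pow_orderOf_eq_one h) (hfpf h hh) a)
        rw [QuotientAddGroup.mk_sum, Finset.sum_congr rfl (fun j _ => hpow j)] at h0
        simpa using h0
      have hra : r • (a : A ⧸ R) = 0 := by
        rw [← QuotientAddGroup.mk_nsmul, QuotientAddGroup.eq_zero_iff]; exact ⟨a, rfl⟩
      have hcop : k.Coprime r := (Nat.Coprime.symm ((Nat.Prime.coprime_iff_not_dvd hr).2 fun hd => by
        have := Nat.le_of_dvd (orderOf_pos h) hd
        have := orderOf_le_card (x := h)
        omega))
      rw [← ha, toAdd_one]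
      have h1 := addOrderOf_dvd_of_nsmul_eq_zero hsum
      have h2 := addOrderOf_dvd_of_nsmul_eq_zero hra
      exact AddMonoid.addOrderOf_eq_one_iff.1 (Nat.eq_one_of_dvd_coprimes hcop h1 h2))
    exact ⟨L, i1, i2, C, h1, h2⟩

/-- A nontrivial finite subgroup of the units of a domain is a Frobenius complement. -/
theorem units_subgroup_complement {D : Type v} [Ring D] [IsDomain D] (H : Subgroup Dˣ) [Finite H]
    (hH : H ≠ ⊥) :
    ∃ (L : Type) (_ : Group L) (_ : Finite L) (C : Subgroup L),
      Cfsg.IsFrobeniusComplement C ∧ Nonempty (H ≃* C) := by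
  have : Nontrivial H := (Subgroup.nontrivial_iff_ne_bot H).2 hH
  set S : Set D := Set.range fun h : H => ((h : Dˣ) : D) with hS
  set A := AddSubgroup.closure S with hA
  have hmul : ∀ h : H, ∀ a ∈ A, ((h : Dˣ) : D) * a ∈ A := by
    intro h a ha
    induction ha using AddSubgroup.closure_induction with
    | mem x hx =>
      obtain ⟨g, rfl⟩ := hx
      exact AddSubgroup.subset_closure ⟨h * g, by simp⟩
    | zero => rw [mul_zero]; exact A.zero_mem
    | add x y _ _ ihx ihy => rw [mul_add]; exact A.add_mem ihx ihy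
    | neg x _ ih => rw [mul_neg]; exact A.neg_mem ih
  let inst : DistribMulAction H A :=
    { smul := fun h a => ⟨((h : Dˣ) : D) * a, hmul h a a.2⟩
      one_smul := fun a => Subtype.ext (show ((1 : Dˣ) : D) * (a : D) = a by simp)
      mul_smul := fun g h a => Subtype.ext (show (((g : Dˣ) * (h : Dˣ) : Dˣ) : D) * (a : D) =
        ((g : Dˣ) : D) * (((h : Dˣ) : D) * a) by simp [mul_assoc])
      smul_zero := fun h => Subtype.ext (mul_zero _)
      smul_add := fun h a b => Subtype.ext (mul_add _ _ _) }
  have : AddGroup.FG A := (AddGroup.fg_iff_addSubgroup_fg A).2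
    ((AddSubgroup.fg_iff A).2 ⟨S, rfl, Set.finite_range _⟩)
  have h1 : (1 : D) ∈ A := AddSubgroup.subset_closure ⟨1, by simp⟩
  have : Nontrivial A := ⟨⟨⟨1, h1⟩, 0, fun h => one_ne_zero (congrArg Subtype.val h)⟩⟩
  refine exists_complement_of_fpf_fg (A := A) fun h hh a ha => ?_
  have ha' : ((h : Dˣ) : D) * (a : D) = (a : D) := congrArg Subtype.val ha
  by_contra hne
  have hne' : (a : D) ≠ 0 := fun h0 => hne (Subtype.ext h0)
  rw [← sub_eq_zero, ← sub_one_mul, mul_eq_zero] at ha'
  rcases ha' with h0 | h0
  · exact hh (Subtype.ext (Units.ext (sub_eq_zero.1 h0)))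
  · exact hne' h0

end CfsgLib.FrobModule
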