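import Mathlib
import Cfsg.Agent.Lib.Frobenius.Involution

/-!
The kernel of a Frobenius group whose complement contains a quaternion pair has odd square order.
-/

set_option autoImplicit false

open scoped Pointwise

namespace CfsgLib.FrobModule

universe u

/-- Two anticommuting square roots of `-1` force even dimension in odd characteristic. -/
theorem even_finrank_of_anticomm {p : ℕ} [Fact p.Prime] (hpodd : Odd p) {M : Type u} [AddCommGroup M]
    [Module (ZMod p) M] (I J : M →+ M) (hI : ∀ x, I (I x) = -x) (hJ : ∀ x, J (J x) = -x)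
    (hIJ : ∀ x, I (J x) = -J (I x)) : Even (Module.finrank (ZMod p) M) := by
  have e1 : (AddMonoidHom.toZModLinearMap p I : M →ₗ[ZMod p] M).comp (AddMonoidHom.toZModLinearMap p I)
      = (-1 : ZMod p) • (LinearMap.id : M →ₗ[ZMod p] M) := by
    ext x; simp [hI]
  have e2 : (AddMonoidHom.toZModLinearMap p J : M →ₗ[ZMod p] M).comp (AddMonoidHom.toZModLinearMap p J)
      = (-1 : ZMod p) • (LinearMap.id : M →ₗ[ZMod p] M) := by
    ext x; simp [hJ]
  have e3 : (AddMonoidHom.toZModLinearMap p I : M →ₗ[ZMod p] M).comp (AddMonoidHom.toZModLinearMap p J)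
      = (-1 : ZMod p) • (AddMonoidHom.toZModLinearMap p J : M →ₗ[ZMod p] M).comp
        (AddMonoidHom.toZModLinearMap p I) := by
    ext x; simp [hIJ]
  set d := Module.finrank (ZMod p) M with hd
  have hne : ((-1 : ZMod p)) ^ d ≠ 0 := pow_ne_zero _ (neg_ne_zero.2 one_ne_zero)
  have d1 := congrArg LinearMap.det e1
  have d2 := congrArg LinearMap.det e2
  have d3 := congrArg LinearMap.det e3
  rw [LinearMap.det_smul, LinearMap.det_comp, LinearMap.det_id, mul_one, ← hd] at d1 d2
  rw [LinearMap.det_smul, LinearMap.det_comp, LinearMap.det_comp, ← hd] at d3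
  set a := LinearMap.det (AddMonoidHom.toZModLinearMap p I : M →ₗ[ZMod p] M)
  set b := LinearMap.det (AddMonoidHom.toZModLinearMap p J : M →ₗ[ZMod p] M)
  have ha : a ≠ 0 := fun h => hne (by rw [← d1, h, zero_mul])
  have hb : b ≠ 0 := fun h => hne (by rw [← d2, h, zero_mul])
  have hone : ((-1 : ZMod p)) ^ d = 1 := by
    apply mul_right_cancel₀ (mul_ne_zero hb ha)
    rw [one_mul, ← d3, mul_comm]
  by_contra hodd'
  rw [Nat.not_even_iff_odd] at hodd'
  rw [hodd'.neg_one_pow] at hone
  have h2 : ((2 : ℕ) : ZMod p) = 0 := by push_cast; linear_combination -hone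
  rw [ZMod.natCast_eq_zero_iff] at h2
  have := (Nat.prime_dvd_prime_iff_eq Fact.out Nat.prime_two).1 h2
  subst this
  exact absurd hpodd (by decide)

/-- The elementary case. -/
theorem isSquare_card_elementary {p : ℕ} [Fact p.Prime] {M : Type u} [AddCommGroup M] [Finite M]
    [Module (ZMod p) M] (hpodd : Odd p) (I J : M →+ M) (hI : ∀ x, I (I x) = -x) (hJ : ∀ x, J (J x) = -x)
    (hIJ : ∀ x, I (J x) = -J (I x)) : IsSquare (Nat.card M) := by
  have : FiniteDimensional (ZMod p) M := Module.Finite.of_finite
  obtain ⟨k, hk⟩ := even_finrank_of_anticomm hpodd I J hI hJ hIJ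
  rw [Module.natCard_eq_pow_finrank (K := ZMod p) (V := M), Nat.card_zmod, hk, pow_add]
  exact IsSquare.mul_self _

/-- An abelian group of odd order with two anticommuting automorphisms squaring to `-1` has square order. -/
theorem isSquare_card_of_anticomm :
    ∀ (n : ℕ) (M : Type u) [AddCommGroup M] [Finite M] (I J : M →+ M), Nat.card M = n → Odd n →
      (∀ x, I (I x) = -x) → (∀ x, J (J x) = -x) → (∀ x, I (J x) = -J (I x)) → IsSquare n := by
  intro n
  induction n using Nat.strong_induction_on with
  | _ n ih =>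
    intro M _ _ I J hn hodd hI hJ hIJ
    by_cases h1 : n = 1
    · subst h1; exact IsSquare.one
    obtain ⟨p, hp, hpd⟩ := Nat.exists_prime_and_dvd h1
    have : Fact p.Prime := ⟨hp⟩
    have hpodd : Odd p := hodd.of_dvd_nat hpd
    set f : M →+ M := nsmulAddMonoidHom p with hf
    have hcard : Nat.card f.ker * Nat.card f.range = n := by
      rw [← hn, ← AddSubgroup.index_ker]
      exact AddSubgroup.card_mul_index f.ker
    have hker : Nat.card f.ker ≠ 1 := by
      obtain ⟨x, hx⟩ := exists_prime_addOrderOf_dvd_card' (G := M) p (hn ▸ hpd)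
      intro h
      have hxk : x ∈ f.ker := by
        show p • x = 0
        rw [← hx]; exact addOrderOf_nsmul_eq_zero x
      rw [AddSubgroup.card_eq_one.1 h, AddSubgroup.mem_bot] at hxk
      rw [hxk, addOrderOf_zero] at hx
      exact hp.one_lt.ne hx
    have hKI : ∀ (K : M →+ M) (x : M), x ∈ f.ker → K x ∈ f.ker := by
      intro K x hx
      show p • K x = 0
      rw [← map_nsmul, show p • x = 0 from hx, map_zero]
    by_cases htop : f.ker = ⊤
    · -- elementary abelian
      have hp0 : ∀ x : M, p • x = 0 := fun x => by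
        have : x ∈ f.ker := by rw [htop]; trivial
        exact this
      rw [← hn]
      exact @isSquare_card_elementary p _ M _ _ (AddCommGroup.zmodModule (n := p) hp0) hpodd I J hI hJ hIJ
    · have hlt : Nat.card f.ker < n := by
        rw [← hn]
        refine lt_of_le_of_ne (Nat.card_le_card_of_injective _ Subtype.coe_injective) fun h => htop ?_
        exact AddSubgroup.eq_top_of_card_eq _ h
      have hlt2 : Nat.card f.range < n := by
        have : 1 < Nat.card f.ker := lt_of_le_of_ne Nat.card_pos (Ne.symm hker)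
        have : 0 < Nat.card f.range := Nat.card_pos
        nlinarith
      have s1 := ih _ hlt f.ker ((I.comp f.ker.subtype).codRestrict _ fun x => hKI I x x.2)
        ((J.comp f.ker.subtype).codRestrict _ fun x => hKI J x x.2) rfl
        (hodd.of_dvd_nat ⟨_, hcard.symm⟩)
        (fun x => Subtype.ext (hI x.1)) (fun x => Subtype.ext (hJ x.1)) (fun x => Subtype.ext (hIJ x.1))
      have hR : ∀ (K : M →+ M) (x : M), x ∈ f.range → K x ∈ f.range := by
        rintro K _ ⟨y, rfl⟩
        exact ⟨K y, (map_nsmul K p y).symm⟩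
      have s2 := ih _ hlt2 f.range ((I.comp f.range.subtype).codRestrict _ fun x => hR I x x.2)
        ((J.comp f.range.subtype).codRestrict _ fun x => hR J x x.2) rfl
        (hodd.of_dvd_nat ⟨_, (mul_comm _ _).trans hcard |>.symm⟩)
        (fun x => Subtype.ext (hI x.1)) (fun x => Subtype.ext (hJ x.1)) (fun x => Subtype.ext (hIJ x.1))
      rw [← hcard]
      exact s1.mul s2

variable {L : Type u} [Group L] [Finite L] {H : Subgroup L}

/-- A quaternion pair in a Frobenius complement makes the kernel of odd square order. -/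
theorem card_kernel_square (hH : Cfsg.IsFrobeniusComplement H) {i j : L} (hi : i ∈ H) (hj : j ∈ H)
    (ht1 : i * i ≠ 1) (ht2 : i * i * (i * i) = 1) (hij : j * j = i * i)
    (hc : i * j = i * i * (j * i)) :
    Odd (Nat.card (Cfsg.frobeniusKernel H)) ∧ IsSquare (Nat.card (Cfsg.frobeniusKernel H)) := by
  set t := i * i with ht
  have htH : t ∈ H := H.mul_mem hi hi
  have hinv : ∀ x ∈ Cfsg.frobeniusKernel H, t * x * t = x⁻¹ :=
    fun x hx => (CfsgLib.Frobenius.inverts_kernel hH htH ht1 ht2 hx).1
  have htt : t⁻¹ = t := inv_eq_of_mul_eq_one_right ht2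
  let N : Subgroup L :=
    { carrier := Cfsg.frobeniusKernel H
      one_mem' := Or.inl rfl
      mul_mem' := fun hx hy => CfsgLib.Frobenius.kernel_mul_mem hH htH ht1 ht2 hx hy
      inv_mem' := fun {x} hx => by
        have := CfsgLib.Frobenius.conj_mem_kernel hx t
        rw [← hinv x hx]
        rw [htt] at this
        simpa [htt] using this }
  have hN : (N : Set L) = Cfsg.frobeniusKernel H := rfl
  have hodd : Odd (Nat.card N) := by
    have h2 : 2 ∣ Nat.card H := by
      have ho : orderOf (⟨t, htH⟩ : H) = 2 :=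
        orderOf_eq_prime (Subtype.ext (by simpa [sq] using ht2)) (fun h => ht1 (congrArg Subtype.val h))
      exact ho ▸ orderOf_dvd_natCard _
    have hcop := (CfsgLib.Frobenius.coprime_card_index hH).coprime_dvd_left h2
    rw [← CfsgLib.Frobenius.card_kernel hH] at hcop
    change Odd (Nat.card (Cfsg.frobeniusKernel H))
    rw [← Nat.not_even_iff_odd, even_iff_two_dvd]
    exact (Nat.prime_two.coprime_iff_not_dvd).1 hcop
  let instC : CommGroup N := { (inferInstance : Group N) with
    mul_comm := fun a b => Subtype.ext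
      (CfsgLib.Frobenius.kernel_commute hH htH ht1 ht2 a.2 b.2).eq }
  have hmap : ∀ g : L, ∀ x ∈ N, g * x * g⁻¹ ∈ N := by
    intro g x hx
    have := CfsgLib.Frobenius.conj_mem_kernel (H := H) hx g
    rw [← SetLike.mem_coe, hN]
    simpa [mul_assoc] using this
  let c : L → Additive N →+ Additive N := fun g =>
    MonoidHom.toAdditive
      ({ toFun := fun x => ⟨g * x.1 * g⁻¹, hmap g x.1 x.2⟩
         map_one' := Subtype.ext (by simp)
         map_mul' := fun x y => Subtype.ext (by simp [mul_assoc]) } : N →* N)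
  have hcc : ∀ g h x, c g (c h x) = c (g * h) x := fun g h x =>
    congrArg Additive.ofMul (Subtype.ext (show g * (h * x.toMul.1 * h⁻¹) * g⁻¹ = g * h * x.toMul.1 * (g * h)⁻¹ by group))
  have hneg : ∀ x, c t x = -x := fun x =>
    congrArg Additive.ofMul (Subtype.ext (show t * x.toMul.1 * t⁻¹ = (x.toMul.1)⁻¹ by
      rw [htt]; exact hinv _ x.toMul.2))
  have hsq := isSquare_card_of_anticomm (Nat.card N) (Additive N) (c i) (c j) rfl hodd
    (fun x => by rw [hcc, ← ht, hneg]) (fun x => by rw [hcc, hij, hneg])
    (fun x => by rw [hcc, hcc, hc, ← hneg, hcc])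
  exact ⟨hodd, hsq⟩

end CfsgLib.FrobModule
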